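import Groth.Agent.H17.FPExt.Colimit

/-!
# A quasi-coherent module of finite type as a directed colimit of finitely presented quotients

Given `q : P ⟶ F` epi with `P` finitely presented, the quotients of `P` by the images of finitely
many finitely presented modules mapping to `kernel q` form a directed system with colimit `F`.
-/

set_option autoImplicit false
set_option linter.style.haveILetI false
universe u

open CategoryTheory CategoryTheory.Limits AlgebraicGeometry Opposite TopologicalSpace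

namespace Groth.Agent.H8Props.FTColimit

open H17.FPExt H29Fitt
open scoped ZeroObject

variable {X : Scheme.{u}}

/-- A map which kills all sections over affine opens is zero. -/
theorem eq_zero_of_affine {M N : X.Modules} (b : M ⟶ N)
    (h : ∀ (U : X.affineOpens) (s : Γ(M, U.1)), b.app U.1 s = 0) : b = 0 := by
  refine Scheme.Modules.hom_ext _ _ fun V => ?_
  ext σ
  refine TopCat.Presheaf.section_ext (⟨N.presheaf, N.isSheaf⟩ : TopCat.Sheaf Ab X) V _ _ fun y hy => ?_
  obtain ⟨U, hU, hyU, hle⟩ := exists_isAffineOpen_mem_and_subset (X := X) (x := y) (U := V) hy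
  refine N.presheaf.germ_ext U hyU (homOfLE hle) (homOfLE hle) ?_
  refine Eq.trans (ConcreteCategory.congr_hom (b.mapPresheaf.naturality (homOfLE hle).op) σ).symm ?_
  show b.app U (M.presheaf.map (homOfLE hle).op σ) = _
  rw [h ⟨U, hU⟩]
  exact (map_zero (N.presheaf.map (homOfLE hle).op).hom).symm

/-- A map killing generators kills their span. -/
theorem app_eq_zero_of_mem_span {A B : X.Modules} (f : A ⟶ B) (U : X.Opens) {G : Set Γ(A, U)}
    {a : Γ(A, U)} (ha : a ∈ Submodule.span Γ(X, U) G) (h : ∀ g ∈ G, f.app U g = 0) : f.app U a = 0 := by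
  induction ha using Submodule.span_induction with
  | mem c hc => exact h c hc
  | zero => exact map_zero _
  | add a b _ _ ha hb => rw [map_add, ha, hb, add_zero]
  | smul r a _ ha => rw [Scheme.Modules.Hom.app_smul, ha, smul_zero]

variable [CompactSpace X] [QuasiSeparatedSpace X]

/-- A quasi-coherent module of finite type is a quotient of a finitely presented one. -/
theorem exists_fp_epi (M : X.Modules) (hM : Coh.IsQCoh M) (hMt : CohB1.IsFT M) :
    ∃ (P : X.Modules) (q : P ⟶ M), CohB1.IsFP P ∧ Epi q := by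
  classical
  haveI : M.IsQuasicoherent := hM
  obtain ⟨t, ht⟩ := isCompact_univ.elim_finite_subcover (fun U : X.affineOpens => (U.1 : Set X))
    (fun U => U.1.isOpen) (fun x _ => by
      obtain ⟨U, hU, hxU, -⟩ := exists_isAffineOpen_mem_and_subset (X := X) (x := x) (U := ⊤) trivial
      exact Set.mem_iUnion.2 ⟨⟨U, hU⟩, hxU⟩)
  have hgen : ∀ U : X.affineOpens, ∃ L : List (Σ g : GI X, fpGen g ⟶ M), ∃ G : Finset Γ(M, U.1),
      Submodule.span Γ(X, U.1) (G : Set Γ(M, U.1)) = ⊤ ∧ ∀ s ∈ G, ∃ p ∈ L, s ∈ Set.range (p.2.app U.1) := by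
    intro U
    haveI := H10Coh.finite_sections M hMt U.2
    obtain ⟨G, hG⟩ := (inferInstance : Module.Finite Γ(X, U.1) Γ(M, U.1)).fg_top
    choose g φ hφ using fun s : Γ(M, U.1) => exists_fpGen M hM U s
    exact ⟨G.toList.map fun s => ⟨g s, φ s⟩, G, hG, fun s hs =>
      ⟨⟨g s, φ s⟩, List.mem_map.2 ⟨s, Finset.mem_toList.2 hs, rfl⟩, hφ s⟩⟩
  choose L G hG hL using hgen
  obtain ⟨q, hq⟩ := exists_lsum_hom M (t.toList.flatMap L)
  refine ⟨_, q, isFP_lsum _, ?_⟩
  haveI : (lsum ((t.toList.flatMap L).map Sigma.fst)).IsQuasicoherent :=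
    isQCoh_of_isFP _ (isFP_lsum _)
  haveI := H10Coh.isQuasicoherent_cokernel q
  refine Preadditive.epi_of_isZero_cokernel _ (isZero_of_stalk _ fun x => ?_)
  obtain ⟨U, hU, hxU⟩ := Set.mem_iUnion₂.1 (ht (Set.mem_univ x))
  haveI : Subsingleton Γ(cokernel q, U.1) := by
    refine subsingleton_of_forall_eq 0 fun c => ?_
    obtain ⟨b, rfl⟩ := H10Coh.surjective_app_of_epi (cokernel.π q) U.2 c
    have hb : b ∈ Submodule.span Γ(X, U.1) (G U : Set Γ(M, U.1)) := hG U ▸ Submodule.mem_top
    induction hb using Submodule.span_induction with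
    | mem s hs =>
      obtain ⟨p, hp, r, rfl⟩ := hL U s hs
      obtain ⟨z, hz⟩ := hq p (List.mem_flatMap.2 ⟨U, Finset.mem_toList.2 hU, hp⟩) U.1 r
      rw [← hz]
      exact congr($(congr(Scheme.Modules.Hom.app $(cokernel.condition q) U.1)) z)
    | zero => exact map_zero _
    | add a b _ _ ha hb => rw [map_add, ha, hb, add_zero]
    | smul r a _ ha => rw [Scheme.Modules.Hom.app_smul, ha, smul_zero]
  rw [← not_nontrivial_iff_subsingleton,
    H22Alg.CohSupport.nontrivial_stalk_iff _ inferInstance U.2 ⟨x, hxU⟩, Module.support_eq_empty]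
  exact fun h => h

/-- The map from the sum of the sources of a list of maps. -/
noncomputable def gsum {M : X.Modules} :
    (L : List (Σ g : GI X, fpGen g ⟶ M)) → (lsum (L.map Sigma.fst) ⟶ M)
  | [] => 0
  | p :: L =>
    let q' : fpGen p.1 ⊞ lsum (L.map Sigma.fst) ⟶ M := biprod.desc p.2 (gsum L)
    q'

theorem gsum_comp_eq_zero_iff {M N : X.Modules} (f : M ⟶ N) :
    ∀ L : List (Σ g : GI X, fpGen g ⟶ M), gsum L ≫ f = 0 ↔ ∀ p ∈ L, p.2 ≫ f = 0
  | [] => by simp [gsum]
  | p :: L => by
    have key : ∀ (A B : X.Modules) (a : A ⟶ M) (b : B ⟶ M),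
        biprod.desc a b ≫ f = 0 ↔ a ≫ f = 0 ∧ b ≫ f = 0 := fun A B a b =>
      ⟨fun h => ⟨by rw [← biprod.inl_desc a b, Category.assoc, h, comp_zero],
          by rw [← biprod.inr_desc a b, Category.assoc, h, comp_zero]⟩,
        fun h => biprod.hom_ext' _ _ (by rw [biprod.inl_desc_assoc, h.1, comp_zero])
          (by rw [biprod.inr_desc_assoc, h.2, comp_zero])⟩
    exact (key _ _ p.2 (gsum L)).trans (by rw [gsum_comp_eq_zero_iff f L, List.forall_mem_cons])

variable {P F : X.Modules} (q : P ⟶ F) (hqk : Coh.IsQCoh (kernel q))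

/-- The index set: sections of the kernel over affine opens. -/
abbrev KSec : Type u := Σ U : X.affineOpens, Γ(kernel q, U.1)

/-- A chosen finitely presented module through each section. -/
noncomputable def kgen (p : KSec q) : Σ g : GI X, fpGen g ⟶ kernel q :=
  ⟨(exists_fpGen (kernel q) hqk p.1 p.2).choose, (exists_fpGen (kernel q) hqk p.1 p.2).choose_spec.choose⟩

theorem mem_range_kgen (p : KSec q) : p.2 ∈ Set.range ((kgen q hqk p).2.app p.1.1) :=
  (exists_fpGen (kernel q) hqk p.1 p.2).choose_spec.choose_spec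

/-- The relations indexed by a finite set. -/
noncomputable def rel (s : Finset (KSec q)) : lsum ((s.toList.map (kgen q hqk)).map Sigma.fst) ⟶ P :=
  gsum (s.toList.map (kgen q hqk)) ≫ kernel.ι q

theorem rel_comp_eq_zero_iff {N : X.Modules} (f : P ⟶ N) (s : Finset (KSec q)) :
    rel q hqk s ≫ f = 0 ↔ ∀ p ∈ s, (kgen q hqk p).2 ≫ kernel.ι q ≫ f = 0 := by
  rw [rel, Category.assoc, gsum_comp_eq_zero_iff]
  simp only [List.mem_map, Finset.mem_toList]
  constructor
  · exact fun h p hp => h _ ⟨p, hp, rfl⟩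
  · rintro h _ ⟨p, hp, rfl⟩
    exact h p hp

theorem rel_comp_q (s : Finset (KSec q)) : rel q hqk s ≫ q = 0 := by
  rw [rel, Category.assoc, kernel.condition, comp_zero]

theorem rel_comp_π {s t : Finset (KSec q)} (h : s ≤ t) :
    rel q hqk s ≫ cokernel.π (rel q hqk t) = 0 := by
  rw [rel_comp_eq_zero_iff]
  intro p hp
  exact (rel_comp_eq_zero_iff q hqk (cokernel.π (rel q hqk t)) t).1 (cokernel.condition _) p (h hp)

/-- The directed system of quotients. -/
noncomputable def quot : Finset (KSec q) ⥤ X.Modules where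
  obj s := cokernel (rel q hqk s)
  map {s t} h := cokernel.desc _ (cokernel.π (rel q hqk t)) (rel_comp_π q hqk h.le)
  map_id s := by rw [← cancel_epi (cokernel.π (rel q hqk s)), cokernel.π_desc, Category.comp_id]
  map_comp f g := by
    rw [← cancel_epi (cokernel.π (rel q hqk _)), cokernel.π_desc, cokernel.π_desc_assoc, cokernel.π_desc]

/-- The map to `F`. -/
noncomputable def quotι : quot q hqk ⟶ (Functor.const _).obj F where
  app s := cokernel.desc _ q (rel_comp_q q hqk s)
  naturality s t h := by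
    refine (cancel_epi (cokernel.π (rel q hqk s))).1 ?_
    show cokernel.π (rel q hqk s) ≫ cokernel.desc _ (cokernel.π (rel q hqk t)) (rel_comp_π q hqk h.le) ≫
        cokernel.desc _ q (rel_comp_q q hqk t) = cokernel.π (rel q hqk s) ≫ cokernel.desc _ q (rel_comp_q q hqk s) ≫ 𝟙 F
    rw [Category.comp_id, cokernel.π_desc_assoc, cokernel.π_desc, cokernel.π_desc]

theorem π_quotι (s : Finset (KSec q)) : cokernel.π (rel q hqk s) ≫ (quotι q hqk).app s = q :=
  cokernel.π_desc _ _ _

theorem π_map {s t : Finset (KSec q)} (h : s ⟶ t) :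
    cokernel.π (rel q hqk s) ≫ (quot q hqk).map h = cokernel.π (rel q hqk t) :=
  cokernel.π_desc _ _ (rel_comp_π q hqk h.le)

theorem epi_quot_map {s t : Finset (KSec q)} (h : s ⟶ t) : Epi ((quot q hqk).map h) := by
  refine ⟨fun a b hab => ?_⟩
  refine (cancel_epi (cokernel.π (rel q hqk t))).1 ?_
  calc cokernel.π (rel q hqk t) ≫ a = (cokernel.π (rel q hqk s) ≫ (quot q hqk).map h) ≫ a :=
        congrArg (· ≫ a) (π_map q hqk h).symm
    _ = cokernel.π (rel q hqk s) ≫ (quot q hqk).map h ≫ a := Category.assoc _ _ _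
    _ = cokernel.π (rel q hqk s) ≫ (quot q hqk).map h ≫ b := congrArg (cokernel.π (rel q hqk s) ≫ ·) hab
    _ = (cokernel.π (rel q hqk s) ≫ (quot q hqk).map h) ≫ b := (Category.assoc _ _ _).symm
    _ = cokernel.π (rel q hqk t) ≫ b := congrArg (· ≫ b) (π_map q hqk h)

theorem nonempty_isColimit [Epi q] : Nonempty (IsColimit (Cocone.mk F (quotι q hqk))) := by
  have hker : ∀ c : Cocone (quot q hqk), kernel.ι q ≫ cokernel.π (rel q hqk ∅) ≫ c.ι.app ∅ = 0 := by
    intro c
    refine eq_zero_of_affine _ fun U s => ?_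
    classical
    let p : KSec q := ⟨U, s⟩
    obtain ⟨r, hr⟩ := mem_range_kgen q hqk p
    have hw : cokernel.π (rel q hqk ∅) ≫ c.ι.app ∅ = cokernel.π (rel q hqk {p}) ≫ c.ι.app {p} := by
      rw [← c.w (homOfLE (Finset.empty_subset {p}))]
      exact (Category.assoc _ _ _).symm.trans (congrArg (· ≫ c.ι.app {p}) (π_map q hqk _))
    have hz : (kgen q hqk p).2 ≫ kernel.ι q ≫ cokernel.π (rel q hqk {p}) = 0 :=
      (rel_comp_eq_zero_iff q hqk _ {p}).1 (cokernel.condition _) p (Finset.mem_singleton_self p)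
    rw [hw, show s = (kgen q hqk p).2.app U.1 r from hr.symm, ← ConcreteCategory.comp_apply,
      ← Scheme.Modules.Hom.comp_app, reassoc_of% hz, zero_comp]
    rfl
  let S := ShortComplex.mk (kernel.ι q) q (kernel.condition q)
  let hcok : IsColimit (CokernelCofork.ofπ q (kernel.condition q)) :=
    Abelian.epiIsCokernelOfKernel (KernelFork.ofι (kernel.ι q) (kernel.condition q)) (kernelIsKernel q)
  refine ⟨{ desc := fun c => hcok.desc (CokernelCofork.ofπ _ (hker c)), fac := fun c s => ?_, uniq := fun c m hm => ?_ }⟩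
  · refine (cancel_epi (cokernel.π (rel q hqk s))).1 ?_
    show cokernel.π (rel q hqk s) ≫ (quotι q hqk).app s ≫ _ = _
    rw [← Category.assoc, π_quotι]
    refine (hcok.fac _ WalkingParallelPair.one).trans ?_
    show cokernel.π (rel q hqk ∅) ≫ c.ι.app ∅ = _
    rw [← c.w (homOfLE (Finset.empty_subset s))]
    exact (Category.assoc _ _ _).symm.trans (congrArg (· ≫ c.ι.app s) (π_map q hqk _))
  · refine (cancel_epi q).1 ?_
    refine Eq.trans ?_ (hcok.fac (CokernelCofork.ofπ _ (hker c)) WalkingParallelPair.one).symm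
    show q ≫ m = cokernel.π (rel q hqk ∅) ≫ c.ι.app ∅
    rw [← hm ∅]
    exact ((Category.assoc _ _ _).symm.trans (congrArg (· ≫ m) (π_quotι q hqk ∅))).symm

theorem isFP_quot (hP : CohB1.IsFP P) (s : Finset (KSec q)) : CohB1.IsFP ((quot q hqk).obj s) :=
  isFP_cokernel (rel q hqk s) (isQCoh_of_isFP _ (isFP_lsum _)) (isFT_of_isFP _ (isFP_lsum _)) hP

include hqk in
/-- If the kernel has finitely generated sections over finitely many affines, some quotient maps
bijectively to `F` over them. -/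
theorem exists_isoAt [Epi q] (hP : CohB1.IsFP P) (hF : Coh.IsQCoh F) (T : Finset X.affineOpens)
    (hT : ∀ V ∈ T, (LinearMap.ker (appLin' q V.1)).FG) :
    ∃ s : Finset (KSec q), ∀ V ∈ T, ∀ x ∈ V.1, IsoAt ((quotι q hqk).app s) x := by
  classical
  haveI : P.IsQuasicoherent := isQCoh_of_isFP P hP
  have hgen : ∀ V : T, ∃ G : Finset Γ(kernel q, V.1.1), ∀ a : Γ(P, V.1.1), q.app V.1.1 a = 0 →
      a ∈ Submodule.span Γ(X, V.1.1) ((kernel.ι q).app V.1.1 '' (G : Set Γ(kernel q, V.1.1))) := by
    rintro ⟨V, hV⟩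
    obtain ⟨G, hG⟩ := hT V hV
    have hmem : ∀ g : (G : Set Γ(P, V.1)), ∃ k, (kernel.ι q).app V.1 k = g.1 := fun g =>
      exists_kernel_preimage q V.1 g.1
        (show g.1 ∈ LinearMap.ker (appLin' q V.1) from hG ▸ Submodule.subset_span g.2)
    choose k hk using hmem
    refine ⟨(Finset.univ : Finset ↥(G : Set Γ(P, V.1))).image k, fun a ha => ?_⟩
    have : a ∈ Submodule.span Γ(X, V.1) (G : Set Γ(P, V.1)) := by rw [hG]; exact ha
    refine Submodule.span_mono ?_ this
    intro g hg
    exact ⟨k ⟨g, hg⟩, Finset.mem_image_of_mem _ (Finset.mem_univ _), hk ⟨g, hg⟩⟩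
  choose G hG using hgen
  refine ⟨Finset.univ.biUnion fun V : T => (G V).image fun k => (⟨V.1, k⟩ : KSec q), fun V hV x hx => ?_⟩
  set s : Finset (KSec q) := Finset.univ.biUnion fun V : T => (G V).image fun k => (⟨V.1, k⟩ : KSec q)
  refine isoAt_of_torsion (isQCoh_of_isFP _ (isFP_quot q hqk hP s)) hF _ V.2 1 ?_ ?_
    (by rw [Scheme.basicOpen_of_isUnit _ isUnit_one]; exact hx)
  · intro a ha
    refine ⟨0, ?_⟩
    rw [pow_zero, one_smul]
    haveI : (cokernel (rel q hqk s)).IsQuasicoherent := isQCoh_of_isFP _ (isFP_quot q hqk hP s)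
    obtain ⟨b, rfl⟩ := H10Coh.surjective_app_of_epi (cokernel.π (rel q hqk s)) V.2 a
    have hb : q.app V.1 b = 0 := by
      refine Eq.trans ?_ ha
      exact congr($(congr(Scheme.Modules.Hom.app $(π_quotι q hqk s) V.1)) b).symm
    refine app_eq_zero_of_mem_span (cokernel.π (rel q hqk s)) V.1 (hG ⟨V, hV⟩ b hb) ?_
    rintro _ ⟨k, hk, rfl⟩
    let p : KSec q := ⟨V, k⟩
    obtain ⟨r, hr⟩ := mem_range_kgen q hqk p
    have hps : p ∈ s := Finset.mem_biUnion.2 ⟨⟨V, hV⟩, Finset.mem_univ _, Finset.mem_image_of_mem _ hk⟩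
    have hz := (rel_comp_eq_zero_iff q hqk _ s).1 (cokernel.condition (rel q hqk s)) p hps
    rw [show k = (kgen q hqk p).2.app V.1 r from hr.symm]
    exact congr($(congr(Scheme.Modules.Hom.app $hz V.1)) r)
  · intro b
    haveI : F.IsQuasicoherent := hF
    haveI : P.IsQuasicoherent := isQCoh_of_isFP P hP
    obtain ⟨a, rfl⟩ := H10Coh.surjective_app_of_epi q V.2 b
    refine ⟨0, (cokernel.π (rel q hqk s)).app V.1 a, ?_⟩
    rw [pow_zero, one_smul]
    exact congr($(congr(Scheme.Modules.Hom.app $(π_quotι q hqk s) V.1)) a)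

end Groth.Agent.H8Props.FTColimit
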